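import Cfsg.Agent.Helper28.TCL2
import Cfsg.Agent.Helper28.SP4T.Data

/-! Stabiliser chain data on the final table of Cfsg.Agent.Helper28.SP4T (generated). -/

set_option autoImplicit false

namespace Cfsg.Agent.Helper28.SP4L

/-- generator words of the level -/
def W2 : List (List ℕ) := [[0],
  [1],
  [2],
  [3],
  [4]]

noncomputable def ovcol2 : List ℕ := [0x3c3b39382f2e282725242321201f1a18171615140e0d0c0b0807060504030201,
0xebb2a7a6c9c8ada981589c9a908f86857c7a7674735c5a59504e4d4846454342]

noncomputable def opcol2 : List ℕ := [0x12000000001100100f0e0d0c00000000000b0a09080000070605040302010000,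
0x1f1e001d1c00000000000000001b1a0000000000191800171615001413,
0x2a00292836000000000000002700262500000000240023220021200000,
0x2f002e0000002d002c2b00000000000000000000000000000000000000,
0x3500340000000000000000003332000000000000000031300000003700,
0x3e000000003900000038003d3c000000000000,
0x3b3a0000000000000000,
0x3f0000000000000000000000]

noncomputable def otcol2 : List ℕ := [0x41321341231241111140f20f40e30e20d40c30c10c20b40a30a10a308208306206304104302102401201400200000000,
0x43c03743603632d12d22a12a33223222642532412442022021f11e21d41c21c41e41a21a219418118217416216415115]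

/-- the orbit list -/
noncomputable def ov2 : ℕ → ℕ := fun t => Cfsg.Agent.Helper28.bent 5 31 8 255 ovcol2 t

/-- position in the orbit list -/
noncomputable def op2 : ℕ → ℕ := fun i => Cfsg.Agent.Helper28.bent 5 31 8 255 opcol2 i

/-- orbit tree: parent position -/
noncomputable def otp2 : ℕ → ℕ := fun t => Nat.land (Cfsg.Agent.Helper28.bent 5 31 12 4095 otcol2 t) 255

/-- orbit tree: word index -/
noncomputable def otw2 : ℕ → ℕ := fun t => Nat.shiftRight (Cfsg.Agent.Helper28.bent 5 31 12 4095 otcol2 t) 8

/-- generator words of the level -/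
def W3 : List (List ℕ) := [[1],
  [0, 3],
  [0, 2, 4, 2]]

noncomputable def ovcol3 : List ℕ := [0x59459a4e8674433c251804150c0703]

noncomputable def opcol3 : List ℕ := [0x5000003000000000000000002000000000100000400000000,
0x700000000000000000000000000000000000000000000060000000000,
0xe000000000000000000000b00000000000000000d0008000000,
0x90000000000000000000000000000000000000000,
0xc000000000000000000000000000000000000000a000000000000,
0x0,
0x0,
0x0]

noncomputable def otcol3 : List ℕ := [0x20920a10a108008106203105005201200101100000000]

/-- the orbit list -/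
noncomputable def ov3 : ℕ → ℕ := fun t => Cfsg.Agent.Helper28.bent 5 31 8 255 ovcol3 t

/-- position in the orbit list -/
noncomputable def op3 : ℕ → ℕ := fun i => Cfsg.Agent.Helper28.bent 5 31 8 255 opcol3 i

/-- orbit tree: parent position -/
noncomputable def otp3 : ℕ → ℕ := fun t => Nat.land (Cfsg.Agent.Helper28.bent 5 31 12 4095 otcol3 t) 255

/-- orbit tree: word index -/
noncomputable def otw3 : ℕ → ℕ := fun t => Nat.shiftRight (Cfsg.Agent.Helper28.bent 5 31 12 4095 otcol3 t) 8

/-- generator words of the level -/
def W4 : List (List ℕ) := [[3, 2, 4, 2, 0, 3],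
  [2, 4, 2, 0, 1, 0, 2, 4, 2]]

noncomputable def ovcol4 : List ℕ := [0x43180c04]

noncomputable def opcol4 : List ℕ := [0x2000000000000000000000001000000000000000000000000,
0x0,
0x3000000,
0x0,
0x0,
0x0,
0x0,
0x0]

noncomputable def otcol4 : List ℕ := [0x101100000000]

/-- the orbit list -/
noncomputable def ov4 : ℕ → ℕ := fun t => Cfsg.Agent.Helper28.bent 5 31 8 255 ovcol4 t

/-- position in the orbit list -/
noncomputable def op4 : ℕ → ℕ := fun i => Cfsg.Agent.Helper28.bent 5 31 8 255 opcol4 i

/-- orbit tree: parent position -/
noncomputable def otp4 : ℕ → ℕ := fun t => Nat.land (Cfsg.Agent.Helper28.bent 5 31 12 4095 otcol4 t) 255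

/-- orbit tree: word index -/
noncomputable def otw4 : ℕ → ℕ := fun t => Nat.shiftRight (Cfsg.Agent.Helper28.bent 5 31 12 4095 otcol4 t) 8

end Cfsg.Agent.Helper28.SP4L
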